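import Cfsg.Agent.Lib.Glauberman.CoprimeDegree
import Cfsg.Agent.Lib.Glauberman.PGroup
import Cfsg.Agent.Lib.Characters.Kernel
import Mathlib.GroupTheory.FiniteAbelian.Duality
import Mathlib.Analysis.Complex.Polynomial.Basic
import Mathlib.RingTheory.RootsOfUnity.AlgebraicallyClosed
import Mathlib.GroupTheory.GroupAction.ConjAct

/-!
# Exactly one degree divisible by `p` in a group with a normal `p`-complement
-/

set_option autoImplicit false
set_option linter.unusedSectionVars false
set_option linter.style.haveILetI false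

namespace Cfsg.Agent.Lib.OneBadDegree

open Cfsg Cfsg.Agent.Lib.Blocks Cfsg.Agent.Lib.Characters Cfsg.Agent.Lib.Glauberman
open scoped commutatorElement

universe u

variable {G : Type u} [Group G] [Finite G] {p : ℕ} [hp : Fact p.Prime] (N : Subgroup G) [N.Normal]

/-- Nonabelian complement and a unique degree divisible by `p` force `N = 1`. -/
theorem eq_bot_of_nonabelian (P : Subgroup G) (hP : IsPGroup p P) (hcop : (Nat.card N).Coprime N.index)
    (hidx : N.index = Nat.card P) (hsup : N ⊔ P = ⊤) (hdis : N ⊓ P = ⊥)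
    (hna : ¬ ∀ a b : P, a * b = b * a)
    (hone : Nat.card {χ : IrrCharacter G // p ∣ charDegree (χ : G → ℂ)} = 1) : N = ⊥ := by
  classical
  haveI := Fintype.ofFinite G
  haveI := Fintype.ofFinite N
  haveI := Fintype.ofFinite (IrrCharacter G)
  haveI := Fintype.ofFinite (IrrCharacter N)
  haveI := Fintype.ofFinite (G ⧸ N)
  haveI := Fintype.ofFinite (IrrCharacter (G ⧸ N))
  obtain ⟨j, hj⟩ := hP.exists_card_eq
  have hP1 : ¬ (commutator P = ⊥) := by
    intro h
    apply hna
    intro a b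
    have : ⁅a, b⁆ ∈ commutator P :=
      Subgroup.commutator_mem_commutator (Subgroup.mem_top a) (Subgroup.mem_top b)
    rw [h, Subgroup.mem_bot] at this
    exact commutatorElement_eq_one_iff_mul_comm.1 this
  set L := Nat.card {l : G →* ℂˣ // ∀ k : N, l k = 1} with hL
  have hLcard : L = (commutator P).index := by
    rw [hL, card_linear_of_complement N P hsup hdis]
    haveI : Finite (Abelianization P) := Finite.of_surjective _ (QuotientGroup.mk_surjective (s := commutator P))
    haveI : NeZero (Monoid.exponent (Abelianization P)) := ⟨Monoid.exponent_ne_zero_of_finite⟩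
    rw [Nat.card_congr (Abelianization.lift (G := P) (A := ℂˣ)),
      CommGroup.card_monoidHom_of_hasEnoughRootsOfUnity, Subgroup.index_eq_card]
    rfl
  have hLle : p * L ≤ Nat.card P := by
    obtain ⟨i, hi⟩ := hP.to_subgroup (commutator P) |>.exists_card_eq
    have hi1 : 1 ≤ i := by
      rcases Nat.eq_zero_or_pos i with rfl | h
      · exact absurd (Subgroup.eq_bot_of_card_eq _ (by simpa using hi)) hP1
      · exact h
    rw [hLcard, ← Subgroup.card_mul_index (commutator P), hi]
    exact Nat.mul_le_mul_right _ (Nat.le_self_pow (by omega) p)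
  -- a nonlinear character of the quotient
  have hQna : ¬ ∀ a b : G ⧸ N, a * b = b * a := by
    intro h
    refine hna fun a b => ?_
    have h1 := h (a : G) (b : G)
    rw [← QuotientGroup.mk_mul, ← QuotientGroup.mk_mul, QuotientGroup.eq] at h1
    have h2 : ((a : G) * b)⁻¹ * ((b : G) * a) ∈ N ⊓ P :=
      ⟨h1, P.mul_mem (P.inv_mem (P.mul_mem a.2 b.2)) (P.mul_mem b.2 a.2)⟩
    rw [hdis, Subgroup.mem_bot, inv_mul_eq_one] at h2
    exact Subtype.ext h2
  obtain ⟨η, hη⟩ : ∃ η : IrrCharacter (G ⧸ N), (η : G ⧸ N → ℂ) 1 ≠ 1 :=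
    not_forall.1 fun h => hQna (comm_iff_forall_irr_one.2 h)
  let χ₁ : IrrCharacter G :=
    ⟨_, IsIrrCharacter.comp_surjective η.2 (QuotientGroup.mk' N) (QuotientGroup.mk'_surjective N)⟩
  have hd1 : charDegree (χ₁ : G → ℂ) = charDegree (η : G ⧸ N → ℂ) := by simp [charDegree, χ₁]
  have hbad : p ∣ charDegree (χ₁ : G → ℂ) := by
    rw [hd1]
    have h1 := Blocks.charDegree_dvd_card η
    rw [← Subgroup.index_eq_card, hidx, hj] at h1
    obtain ⟨i, -, hi⟩ := (Nat.dvd_prime_pow hp.out).1 h1
    rcases Nat.eq_zero_or_pos i with rfl | h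
    · exfalso
      apply hη
      rw [← Blocks.charDegree_eq η, hi, pow_zero, Nat.cast_one]
    · rw [hi]; exact dvd_pow_self p h.ne'
  have huniq : ∀ χ : IrrCharacter G, p ∣ charDegree (χ : G → ℂ) → χ = χ₁ := by
    intro χ hχ
    obtain ⟨hs, -⟩ := Nat.card_eq_one_iff_unique.1 hone
    exact congrArg Subtype.val (hs.elim ⟨χ, hχ⟩ ⟨χ₁, hbad⟩)
  have hbound : charDegree (χ₁ : G → ℂ) ^ 2 ≤ Nat.card P := by
    have h1 : ∑ ψ : IrrCharacter (G ⧸ N), charDegree (ψ : G ⧸ N → ℂ) ^ 2 = Nat.card P := by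
      have h := sum_degree_sq (G := G ⧸ N)
      rw [← hidx, Subgroup.index_eq_card]
      simp only [← Blocks.charDegree_eq] at h
      exact_mod_cast h
    rw [hd1, ← h1]
    exact Finset.single_le_sum (f := fun ψ : IrrCharacter (G ⧸ N) => charDegree (ψ : G ⧸ N → ℂ) ^ 2)
      (fun _ _ => Nat.zero_le _) (Finset.mem_univ η)
  have hgoodcop : ∀ χ : IrrCharacter G, χ ≠ χ₁ → (charDegree (χ : G → ℂ)).Coprime N.index := by
    intro χ hχ
    rw [hidx, hj]
    exact Nat.Coprime.pow_right j ((hp.out.coprime_iff_not_dvd.2 fun h => hχ (huniq χ h)).symm)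
  choose r hrinv hr using fun χ : {χ : IrrCharacter G // χ ≠ χ₁} =>
    exists_restrict_eq_of_degree_coprime N χ.1 (hgoodcop χ.1 χ.2)
  have hfib : ∀ θ : IrrCharacter N, Fintype.card {χ // r χ = θ} ≤ L := by
    intro θ
    rcases isEmpty_or_nonempty {χ // r χ = θ} with h | ⟨⟨χ0, h0⟩⟩
    · simp
    have key : ∀ χ : {χ // r χ = θ}, ∃ l : {l : G →* ℂˣ // ∀ k : N, l k = 1},
        (χ.1.1 : G → ℂ) = fun g => (l.1 g : ℂ) * (χ0.1 : G → ℂ) g := by
      rintro ⟨χ, hχ⟩
      have hirr : IsIrrCharacter N (fun k : N => (χ0.1 : G → ℂ) k) := by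
        rw [show (fun k : N => (χ0.1 : G → ℂ) k) = (θ : N → ℂ) from
          funext fun k => by rw [hr χ0 k, h0]]
        exact θ.2
      obtain ⟨l, hl, hlχ⟩ := exists_linear_mul_of_restrict_eq (irr_isCharacter _)
        (irr_isCharacter χ.1) hirr (fun k => by rw [hr χ k, hr χ0 k, hχ, h0])
      exact ⟨⟨l, hl⟩, hlχ⟩
    choose l hl using key
    rw [← Nat.card_eq_fintype_card, hL]
    haveI : Finite {l : G →* ℂˣ // ∀ k : N, l k = 1} := by
      refine Nat.finite_of_card_ne_zero ?_
      rw [← hL, hLcard]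
      exact Subgroup.index_ne_zero_of_finite
    refine Nat.card_le_card_of_injective l fun a b hab => ?_
    exact Subtype.ext (Subtype.ext (Subtype.ext (by rw [hl a, hl b, hab])))
  have hsum : ∑ χ : {χ : IrrCharacter G // χ ≠ χ₁}, charDegree (χ.1 : G → ℂ) ^ 2 ≤ L * Nat.card N := by
    rw [← Finset.sum_fiberwise Finset.univ r]
    have hN : ∑ θ : IrrCharacter N, charDegree (θ : N → ℂ) ^ 2 = Nat.card N := by
      have h := sum_degree_sq (G := N)
      simp only [← Blocks.charDegree_eq] at h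
      exact_mod_cast h
    rw [← hN, Finset.mul_sum]
    refine Finset.sum_le_sum fun θ _ => ?_
    rw [Finset.sum_congr rfl (g := fun _ => charDegree (θ : N → ℂ) ^ 2), Finset.sum_const, smul_eq_mul]
    · refine Nat.mul_le_mul_right _ ((le_of_eq ?_).trans (hfib θ))
      rw [Fintype.card_subtype]
    · intro χ hχ
      have h := hr χ 1
      simp only [OneMemClass.coe_one] at h
      rw [← (Finset.mem_filter.1 hχ).2, charDegree, charDegree, h]
  have htot : charDegree (χ₁ : G → ℂ) ^ 2 +
      ∑ χ : {χ : IrrCharacter G // χ ≠ χ₁}, charDegree (χ.1 : G → ℂ) ^ 2 = Nat.card G := by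
    have h := sum_degree_sq (G := G)
    simp only [← Blocks.charDegree_eq] at h
    have h' : ∑ χ : IrrCharacter G, charDegree (χ : G → ℂ) ^ 2 = Nat.card G := by exact_mod_cast h
    rw [← h', Fintype.sum_eq_add_sum_compl χ₁]
    congr 1
    exact (Finset.sum_subtype _ (fun x => by simp) fun χ : IrrCharacter G => charDegree (χ : G → ℂ) ^ 2).symm
  rw [← Subgroup.card_mul_index N, hidx] at htot
  by_contra hne
  have hN2 : 2 ≤ Nat.card N := (Nat.card N).two_le_iff.2
    ⟨Nat.card_pos.ne', fun h => hne (Subgroup.eq_bot_of_card_eq _ h)⟩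
  have hp2 := hp.out.two_le
  have hq : 0 < Nat.card P := Nat.card_pos
  rcases eq_or_ne p 2 with rfl | hp3
  · have : ¬ 2 ∣ Nat.card N := by
      intro h2
      have h3 : 2 ∣ Nat.card P := by
        rw [hj]
        refine dvd_pow_self 2 fun h0 => hna fun a b => ?_
        haveI : Subsingleton P := (Nat.card_eq_one_iff_unique.1 (by rw [hj, h0, pow_zero])).1
        exact Subsingleton.elim _ _
      exact Nat.not_coprime_of_dvd_of_dvd one_lt_two h2 h3 (hidx ▸ hcop)
    have hN3 : 3 ≤ Nat.card N := by omega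
    nlinarith
  · have hp3' : 3 ≤ p := by omega
    have e1 : Nat.card N * Nat.card P ≤ Nat.card P + L * Nat.card N := by linarith
    have e2 := Nat.mul_le_mul_left p e1
    have e3 := Nat.mul_le_mul_right (Nat.card N) hLle
    have e4 : p + Nat.card N + 1 ≤ p * Nat.card N := by nlinarith
    have e5 := Nat.mul_le_mul_left (Nat.card P) e4
    nlinarith

/-- With an abelian complement the classes of size prime to `p` are counted as the characters. -/
theorem card_classes_not_dvd (P : Subgroup G) (hP : IsPGroup p P) (hN : ¬ p ∣ Nat.card N)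
    (hidx : N.index = Nat.card P) (hsup : N ⊔ P = ⊤) (hdis : N ⊓ P = ⊥)
    (hab : ∀ a b : P, a * b = b * a) :
    Nat.card {C : ConjClasses G // ¬ p ∣ Nat.card C.carrier} =
      Nat.card {θ : IrrCharacter N // ∀ g : G, conjFun N g (θ : N → ℂ) = (θ : N → ℂ)} * Nat.card P := by
  classical
  haveI := Fintype.ofFinite G
  haveI := Fintype.ofFinite N
  let φ : P →* MulAut N := (MulAut.conjNormal : G →* MulAut N).comp P.subtype
  haveI := Fintype.ofFinite (fixedSub φ)
  have hφ : ∀ (y : P) (n : N), ((φ y n : N) : G) = (y : G) * n * (y : G)⁻¹ := fun y n =>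
    MulAut.conjNormal_apply (y : G) n
  -- invariant characters
  have hinv : ∀ θ : IrrCharacter N, IsInv φ (θ : N → ℂ) ↔
      ∀ g : G, conjFun N g (θ : N → ℂ) = (θ : N → ℂ) := by
    intro θ
    have hθi := le_inertia N (IsCharacter.isClassFunction (irr_isCharacter θ))
    constructor
    · intro h
      have hle : P ≤ inertia N (θ : N → ℂ) := fun y hy => (mem_inertia_iff N).2 (funext fun n => by
        exact (congrArg (θ : N → ℂ) (Subtype.ext (hφ ⟨y, hy⟩ n)).symm).trans (h ⟨y, hy⟩ n))
      intro g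
      exact (mem_inertia_iff N).1 ((top_le_iff.1 (hsup ▸ sup_le hθi hle) :
        inertia N (θ : N → ℂ) = ⊤) ▸ Subgroup.mem_top g)
    · intro h y n
      exact (congrArg (θ : N → ℂ) (Subtype.ext (hφ y n))).trans (congrFun (h y) n)
  obtain ⟨π, -⟩ := exists_glauberman φ hP hN
  rw [show Nat.card {θ : IrrCharacter N // ∀ g : G, conjFun N g (θ : N → ℂ) = (θ : N → ℂ)} =
    Nat.card (ConjClasses (fixedSub φ)) by
      rw [← card_irrCharacter, ← Nat.card_congr π]
      exact Nat.card_congr (Equiv.subtypeEquivRight fun θ => (hinv θ).symm), ← Nat.card_prod]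
  have hfix : ∀ (c : fixedSub φ) (y : P), (y : G) * ((c : N) : G) = ((c : N) : G) * y := by
    intro c y
    have h := congrArg Subtype.val (c.2 y)
    rw [hφ] at h
    exact mul_inv_eq_iff_eq_mul.1 h
  have hin : ∀ (c : fixedSub φ) (y : P), ¬ p ∣ Nat.card (ConjClasses.mk (((c : N) : G) * y)).carrier := by
    intro c y hdvd
    set g := ((c : N) : G) * y with hg
    rw [← ConjAct.orbit_eq_carrier_conjClasses, Nat.card_coe_set_eq,
      ← MulAction.index_stabilizer] at hdvd
    have hle : P.map (ConjAct.toConjAct : G ≃* ConjAct G).toMonoidHom ≤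
        MulAction.stabilizer (ConjAct G) g := by
      rintro _ ⟨t, ht, rfl⟩
      rw [MulAction.mem_stabilizer_iff, MulEquiv.coe_toMonoidHom, ConjAct.toConjAct_smul, hg,
        mul_inv_eq_iff_eq_mul, ← mul_assoc, hfix c ⟨t, ht⟩, mul_assoc, mul_assoc]
      congr 1
      exact congrArg Subtype.val (hab ⟨t, ht⟩ y)
    have h1 := hdvd.trans (Subgroup.index_dvd_of_le hle)
    rw [Subgroup.index_map_of_bijective (ConjAct.toConjAct (G := G)).bijective] at h1
    refine hN ?_
    have h2 := Subgroup.card_mul_index P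
    rw [← Subgroup.card_mul_index N, hidx, mul_comm (Nat.card N)] at h2
    rwa [Nat.eq_of_mul_eq_mul_left Nat.card_pos h2] at h1
  have hout : ∀ C : ConjClasses (fixedSub φ), ConjClasses.mk (Quotient.out C) = C := fun C =>
    Quotient.out_eq C
  refine (Nat.card_congr (Equiv.ofBijective (fun x : ConjClasses (fixedSub φ) × P =>
    (⟨ConjClasses.mk ((((Quotient.out x.1 : fixedSub φ) : N) : G) * x.2), hin _ _⟩ :
      {C : ConjClasses G // ¬ p ∣ Nat.card C.carrier})) ⟨?_, ?_⟩)).symm
  · rintro ⟨C, x⟩ ⟨C', x'⟩ h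
    have h0 := ConjClasses.mk_eq_mk_iff_isConj.1 (congrArg Subtype.val h)
    set c : fixedSub φ := Quotient.out C with hc
    set c' : fixedSub φ := Quotient.out C' with hc'
    simp only at h0
    obtain ⟨g, hg⟩ := isConj_iff.1 h0
    obtain ⟨n, hn, y, hy, rfl⟩ := Subgroup.mem_sup_of_normal_left.1
      (show g ∈ N ⊔ P by rw [hsup]; trivial)
    have hyc : y * (((c : N) : G) * x) * y⁻¹ = ((c : N) : G) * x := by
      rw [mul_inv_eq_iff_eq_mul, ← mul_assoc, hfix c ⟨y, hy⟩, mul_assoc, mul_assoc]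
      congr 1
      exact congrArg Subtype.val (hab ⟨y, hy⟩ x)
    have hg' : n * (((c : N) : G) * x) * n⁻¹ = ((c' : N) : G) * x' := by
      rw [← hg, mul_inv_rev]
      conv_lhs => rw [← hyc]
      group
    have hx : x = x' := by
      have h1 := congrArg (QuotientGroup.mk' N) hg'
      simp only [map_mul, map_inv, QuotientGroup.mk'_apply] at h1
      rw [(QuotientGroup.eq_one_iff n).2 hn, (QuotientGroup.eq_one_iff _).2 (c : N).2,
        (QuotientGroup.eq_one_iff _).2 (c' : N).2] at h1
      simp only [one_mul, inv_one, mul_one] at h1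
      rw [QuotientGroup.eq] at h1
      have h2 : (x : G)⁻¹ * x' ∈ N ⊓ P := ⟨h1, P.mul_mem (P.inv_mem x.2) x'.2⟩
      rw [hdis, Subgroup.mem_bot, inv_mul_eq_one] at h2
      exact Subtype.ext h2
    subst hx
    have hq := congrArg (· ^ Nat.card P) hg'
    simp only [conj_pow] at hq
    have hxq : ((x : G)) ^ Nat.card P = 1 := by
      rw [← Subgroup.coe_pow, pow_card_eq_one', Subgroup.coe_one]
    rw [(Commute.mul_pow (hfix c x).symm), (Commute.mul_pow (hfix c' x).symm), hxq, mul_one,
      mul_one] at hq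
    have hcc : n * ((c : N) : G) * n⁻¹ = ((c' : N) : G) := by
      have hco : (Nat.card N).Coprime (Nat.card P) := by
        obtain ⟨j, hj⟩ := hP.exists_card_eq
        rw [hj]
        exact Nat.Coprime.pow_right j ((hp.out.coprime_iff_not_dvd.2 hN).symm)
      have := (powCoprime hco).injective (a₁ := ⟨n, hn⟩ * (c : N) * (⟨n, hn⟩ : N)⁻¹)
        (a₂ := (c' : N)) (Subtype.ext (by simpa [conj_pow] using hq))
      exact congrArg Subtype.val this
    have hCC : C = C' := by
      rw [← hout C, ← hout C']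
      refine ConjClasses.mk_eq_mk_iff_isConj.2 (isConj_of_isConj φ hP hN ?_)
      exact isConj_iff.2 ⟨⟨n, hn⟩, Subtype.ext hcc⟩
    rw [hCC]
  · rintro ⟨C, hC⟩
    letI : MulAction P C.carrier :=
      { smul := fun y g => ⟨(y : G) * g.1 * (y : G)⁻¹, by
          rw [ConjClasses.mem_carrier_iff_mk_eq]
          exact (ConjClasses.mk_eq_mk_iff_isConj.2 (isConj_iff.2 ⟨(y : G)⁻¹, by group⟩)).trans
            (ConjClasses.mem_carrier_iff_mk_eq.1 g.2)⟩
        one_smul := fun g => Subtype.ext (show ((1 : P) : G) * g.1 * ((1 : P) : G)⁻¹ = g.1 by simp)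
        mul_smul := fun a b g => Subtype.ext
          (show ((a * b : P) : G) * g.1 * ((a * b : P) : G)⁻¹ =
              (a : G) * ((b : G) * g.1 * (b : G)⁻¹) * (a : G)⁻¹ by
            rw [Subgroup.coe_mul]; group) }
    obtain ⟨⟨g, hg⟩, hgfix⟩ := exists_fixed_of_card (p := p) hP C.carrier hC
    obtain ⟨n, hn, y, hy, rfl⟩ := Subgroup.mem_sup_of_normal_left.1
      (show g ∈ N ⊔ P by rw [hsup]; trivial)
    have hnfix : (⟨n, hn⟩ : N) ∈ fixedSub φ := by
      intro t
      refine Subtype.ext ?_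
      rw [hφ]
      have h1 : (t : G) * (n * y) * (t : G)⁻¹ = n * y := congrArg Subtype.val (hgfix t)
      have h2 : (t : G) * y * (t : G)⁻¹ = y := by
        rw [mul_inv_eq_iff_eq_mul]
        exact congrArg Subtype.val (hab t ⟨y, hy⟩)
      apply mul_right_cancel (b := y)
      nth_rewrite 1 [← h2]
      simpa [mul_assoc] using h1
    obtain ⟨t, ht⟩ := isConj_iff.1 (ConjClasses.mk_eq_mk_iff_isConj.1
      (hout (ConjClasses.mk (⟨⟨n, hn⟩, hnfix⟩ : fixedSub φ))))
    refine ⟨(ConjClasses.mk ⟨⟨n, hn⟩, hnfix⟩, ⟨y, hy⟩), Subtype.ext ?_⟩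
    show ConjClasses.mk _ = C
    rw [← ConjClasses.mem_carrier_iff_mk_eq.1 hg]
    refine ConjClasses.mk_eq_mk_iff_isConj.2 (isConj_iff.2 ⟨((t : N) : G), ?_⟩)
    have h2 := congrArg (fun z : fixedSub φ => ((z : N) : G)) ht
    simp only [Subgroup.coe_mul, InvMemClass.coe_inv] at h2
    have h3 := hfix t⁻¹ ⟨y, hy⟩
    simp only [InvMemClass.coe_inv] at h3
    rw [mul_assoc, mul_assoc, h3]
    simp only [← mul_assoc]
    rw [h2]

end Cfsg.Agent.Lib.OneBadDegree
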